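import Cfsg.Agent.Coset.Blocks
import Cfsg.Agent.Coset.Table
import Cfsg.Agent.Coset.Y555.L0Data

set_option autoImplicit false
set_option maxRecDepth 100000
set_option Elab.async false

namespace CfsgLib.Coset.Y555.L0

theorem hsteps10 : belowBlock 8 3600 (chunkAt E id R 10 59983 C) 10 = true := by decide +kernel
theorem hsteps11 : belowBlock 8 3600 (chunkAt E id R 10 59983 C) 11 = true := by decide +kernel
theorem hsteps12 : belowBlock 8 3600 (chunkAt E id R 10 59983 C) 12 = true := by decide +kernel
theorem hsteps13 : belowBlock 8 3600 (chunkAt E id R 10 59983 C) 13 = true := by decide +kernel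
theorem hsteps14 : belowBlock 8 3600 (chunkAt E id R 10 59983 C) 14 = true := by decide +kernel

end CfsgLib.Coset.Y555.L0
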