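import Cfsg.Agent.Coset.Y555.L4Steps0
import Cfsg.Agent.Coset.Y555.L4Table0
import Mathlib.Tactic.IntervalCases

set_option autoImplicit false
set_option maxRecDepth 100000
set_option Elab.async false

namespace CfsgLib.Coset.Y555.L4

/-- The relators on these letters. -/
def lrels : List (List Nat) := [[0, 0], [0, 1, 0, 1, 0, 1], [0, 2, 0, 2], [0, 3, 0, 3], [0, 4, 0, 4], [0, 5, 0, 5], [1, 1], [1, 2, 1, 2, 1, 2], [1, 3, 1, 3], [1, 4, 1, 4], [1, 5, 1, 5], [2, 2], [2, 3, 2, 3, 2, 3], [2, 4, 2, 4], [2, 5, 2, 5, 2, 5], [3, 3], [3, 4, 3, 4, 3, 4], [3, 5, 3, 5], [4, 4], [4, 5, 4, 5], [5, 5]]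

theorem hR : checkRules lrels subs R = true := by decide +kernel
theorem hdefs : checkDefs E 6 5 27 = true := by decide +kernel

theorem hsteps : checkChunks E id R 6 (1 + 0) 27 2 C = true :=
  checkChunks_of_blocks (by decide +kernel) fun b hb => by
    have : b < 1 := hb
    interval_cases b
    · exact hsteps0

theorem htable : checkTable E id (27 + chunk * 2) 27 6 (5 + 0) 3 Rep Ref Tb = true :=
  checkTable_of_blocks (by decide +kernel) (by decide +kernel) fun b hb => by
    have : b < 1 := hb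
    interval_cases b
    · exact htable0
end CfsgLib.Coset.Y555.L4
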