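import Cfsg.Agent.Coset.Blocks
import Cfsg.Agent.Coset.Table
import Cfsg.Agent.Coset.Y555.L5Data

set_option autoImplicit false
set_option maxRecDepth 100000
set_option Elab.async false

namespace CfsgLib.Coset.Y555.L5

theorem htable0 : belowBlock 11 1920 (tableAt E id (1920 + chunk * 46) 1920 5 3 Rep Ref Tb) 0 = true := by decide +kernel

end CfsgLib.Coset.Y555.L5
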