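import Cfsg.Agent.Coset.Fi23.Order
import Cfsg.Agent.Coset.Y555.Rels
import Cfsg.Agent.Coset.Y555.L0
import Cfsg.Agent.Coset.Y555.L1
import Cfsg.Agent.Coset.Y555.L2
import Cfsg.Agent.Coset.Y555.L3
import Cfsg.Agent.Coset.Y555.L4
import Cfsg.Agent.Coset.Y555.L5

/-!
The ten-node diagram with arms of lengths 4, 3, 2 and the spider relation alone presents the direct
product of `Cfsg.Spor.Fi23` and a group of order two.
-/

set_option autoImplicit false
set_option maxRecDepth 100000
set_option Elab.async false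

namespace CfsgLib.Coset.Y555

open CfsgLib.Coset

/-- The presentation. -/
@[reducible] def presQ : PresData Cfsg.Spor.Fi23.Gen where
  edges := Cfsg.Spor.Fi23.edges
  nodes := [.a, .b, .c, .d, .e, .f, .g, .j, .h, .i]
  extra := [(Cfsg.Spor.Fi23.d * Cfsg.Spor.Fi23.c * Cfsg.Spor.Fi23.b * Cfsg.Spor.Fi23.d *
    Cfsg.Spor.Fi23.e * Cfsg.Spor.Fi23.f * Cfsg.Spor.Fi23.d * Cfsg.Spor.Fi23.h *
    Cfsg.Spor.Fi23.i) ^ 10]
  ix := Fi23.ix

theorem presQ_ok : presQ.OK := ⟨by intro x; cases x <;> decide⟩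

theorem relsQ_eq : presQ.rels = rels := by decide +kernel

/-- The group. -/
abbrev Q : Type := presQ.Gr

/-- The generators. -/
noncomputable abbrev Lq : List Q := presQ.gens

theorem len_Lq : (Lq).length = 10 := rfl

theorem hixQ : ∀ l < 10, ∃ x, presQ.ix x = l := Fi23.hix

theorem ev_relsQ : ∀ w ∈ rels, ev Lq w = 1 := relsQ_eq ▸ presQ.ev_rels presQ_ok

theorem sqQ (x : Nat) : fl Lq x * fl Lq x = 1 := presQ.sq_all presQ_ok hixQ x

theorem closure_Lq : Subgroup.closure {x | x ∈ Lq} = ⊤ := presQ.closure_gens presQ_ok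

theorem level {S S' : List Nat} {rs subs : List (List Nat)} {E Rep Tb : Nat → Nat}
    {R : Tr (List Nat × Nat)} {d d' N nC n dn dk : Nat} {C Ref : Nat → Nat} (k : Nat)
    (hk : S.length = k)
    (hc : checkLevel rels 10 S S' rs subs = true)
    (hR : checkRules rs subs R = true) (hd : checkDefs E k d' N = true)
    (hs : checkChunks E id R k d N nC C = true)
    (ht : checkTable E id (N + chunk * nC) n k dn dk Rep Ref Tb = true) :
    TableOK (lv Lq S) (genBy Lq S') E id n Rep Tb := by
  have hl : (lv Lq S).length = k := by simp [lv, hk]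
  exact tableOK_of_check (inv_lv sqQ S) hR (hl.symm ▸ hd) (hl.symm ▸ hs) (hl.symm ▸ ht)
    (level_rels len_Lq hc ev_relsQ) (level_subs len_Lq hc)

theorem card_le : Finite Q ∧ Nat.card Q ≤ 2 * 4089470473293004800 := by
  have c0 : checkLevel rels 10 [0, 1, 2, 3, 4, 5, 6, 7, 8, 9] [0, 1, 2, 3, 4, 5, 6, 8, 9]
      L0.lrels L0.subs = true := by decide +kernel
  have c1 : checkLevel rels 10 [0, 1, 2, 3, 4, 5, 6, 8, 9] [1, 2, 3, 4, 5, 6, 8, 9]
      L1.lrels L1.subs = true := by decide +kernel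
  have c2 : checkLevel rels 10 [1, 2, 3, 4, 5, 6, 8, 9] [1, 2, 3, 4, 5, 8, 9]
      L2.lrels L2.subs = true := by decide +kernel
  have c3 : checkLevel rels 10 [1, 2, 3, 4, 5, 8, 9] [1, 2, 3, 4, 5, 8] L3.lrels L3.subs = true := by
    decide +kernel
  have c4 : checkLevel rels 10 [1, 2, 3, 4, 5, 8] [2, 3, 4, 5, 8] L4.lrels L4.subs = true := by
    decide +kernel
  have c5 : checkLevel rels 10 [2, 3, 4, 5, 8] [] L5.lrels L5.subs = true := by decide +kernel
  have h := level_card (level 10 rfl c0 L0.hR L0.hdefs L0.hsteps L0.htable) (by decide) c0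
    (level_card (level 9 rfl c1 L1.hR L1.hdefs L1.hsteps L1.htable) (by decide) c1
      (level_card (level 8 rfl c2 L2.hR L2.hdefs L2.hsteps L2.htable) (by decide) c2
        (level_card (level 7 rfl c3 L3.hR L3.hdefs L3.hsteps L3.htable) (by decide) c3
          (level_card (level 6 rfl c4 L4.hR L4.hdefs L4.hsteps L4.htable) (by decide) c4
            (level_card (level 5 rfl c5 L5.hR L5.hdefs L5.hsteps L5.htable) (by decide) c5
              card_genBy_nil)))))
  rw [show ([0, 1, 2, 3, 4, 5, 6, 7, 8, 9] : List Nat) = List.range (Lq).length from rfl,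
    genBy_range closure_Lq] at h
  rw [Subgroup.card_top] at h
  exact ⟨@Finite.of_equiv _ _ h.1 Subgroup.topEquiv.toEquiv, h.2.trans (by norm_num)⟩

/-- The images of the generators in the direct product. -/
noncomputable def imgL : List (Cfsg.Spor.Fi23 × ℤˣ) :=
  (List.range 10).map fun l => (fl Fi23.Lg l, -1)

theorem ev_imgL : ∀ w : List Nat, (∀ l ∈ w, l < 10) →
    ev imgL w = (ev Fi23.Lg w, (-1 : ℤˣ) ^ w.length) := by
  intro w
  induction w with
  | nil => intro _; simp; rfl
  | cons l w ih =>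
    intro hl
    have h : fl imgL l = (fl Fi23.Lg l, -1) := by
      have hl' : l < 10 := hl l (by simp)
      rw [fl, List.getD_eq_getElem _ _ (by simpa [imgL] using hl')]
      simp [imgL]
    rw [ev_cons, ev_cons, ih (fun x hx => hl x (by simp [hx])), h, Prod.mk_mul_mk,
      List.length_cons, pow_succ']

theorem neg_one_pow (w : List Nat) :
    (-1 : ℤˣ) ^ w.length = if w.length % 2 = 0 then 1 else -1 := by
  rcases Nat.even_or_odd w.length with h | h
  · rw [h.neg_one_pow, if_pos (Nat.even_iff.mp h)]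
  · rw [h.neg_one_pow, if_neg (by rw [Nat.odd_iff.mp h]; norm_num)]

theorem img_rels : ∀ w ∈ presQ.rels, ev imgL w = 1 := by
  rw [relsQ_eq]
  intro w hw
  have hc : (rels.all fun w => Fi23.rels.contains w && (w.all fun l => decide (l < 10)) &&
      Nat.beq (w.length % 2) 0) = true := by decide +kernel
  have h := List.all_eq_true.mp hc w hw
  simp only [Bool.and_eq_true, List.all_eq_true, decide_eq_true_eq] at h
  rw [ev_imgL w h.1.2, Fi23.ev_rels w (List.contains_iff_mem.mp h.1.1), neg_one_pow,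
    if_pos (Nat.eq_of_beq_eq_true h.2)]
  rfl

/-- The map to the direct product. -/
noncomputable def ψ : Q →* Cfsg.Spor.Fi23 × ℤˣ := presQ.hom presQ_ok img_rels

theorem ψ_fl {l : Nat} (hl : l < 10) : ψ (fl Lq l) = (fl Fi23.Lg l, -1) := by
  obtain ⟨x, rfl⟩ := hixQ l hl
  have h : ψ (fl Lq (presQ.ix x)) = fl imgL (presQ.ix x) := presQ.hom_fl presQ_ok img_rels x
  rw [h, fl, List.getD_eq_getElem _ _ (by simpa [imgL] using hl)]
  simp [imgL]

theorem ψ_ev : ∀ w : List Nat, (∀ l ∈ w, l < 10) →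
    ψ (ev Lq w) = (ev Fi23.Lg w, (-1 : ℤˣ) ^ w.length) := by
  intro w
  induction w with
  | nil => intro _; simp; rfl
  | cons l w ih =>
    intro hl
    rw [ev_cons, ev_cons, map_mul, ψ_fl (hl l (by simp)), ih (fun x hx => hl x (by simp [hx])),
      Prod.mk_mul_mk, List.length_cons, pow_succ']

theorem coxeter_eq : ev Fi23.Lg (List.replicate 9 Fi23.coxeter).flatten = 1 := by
  refine Fi23.ev_rels _ ?_
  decide +kernel

theorem ψ_surjective : Function.Surjective ψ := by
  have hm : ((1 : Cfsg.Spor.Fi23), (-1 : ℤˣ)) ∈ ψ.range := by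
    refine ⟨ev Lq (List.replicate 9 Fi23.coxeter).flatten, ?_⟩
    rw [ψ_ev _ (by decide +kernel), coxeter_eq, neg_one_pow, if_neg (by decide +kernel)]
  have hg : ∀ g : Cfsg.Spor.Fi23, ((g, 1) : Cfsg.Spor.Fi23 × ℤˣ) ∈ ψ.range := by
    intro g
    have hgm : g ∈ Subgroup.closure {x | x ∈ Fi23.Lg} := Fi23.closure_Lg ▸ Subgroup.mem_top g
    induction hgm using Subgroup.closure_induction with
    | mem x hx =>
      obtain ⟨l, hl, rfl⟩ := List.getElem_of_mem hx
      have := mul_mem (⟨_, ψ_fl (show l < 10 from hl)⟩ : _ ∈ ψ.range) hm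
      rw [Prod.mk_mul_mk, mul_one, fl, List.getD_eq_getElem _ _ hl] at this
      simpa using this
    | one => exact one_mem _
    | mul a b _ _ ha hb => simpa using mul_mem ha hb
    | inv a _ ha => simpa using inv_mem ha
  rintro ⟨g, e⟩
  rcases Int.units_eq_one_or e with rfl | rfl
  · exact hg g
  · have := mul_mem (hg g) hm
    rwa [Prod.mk_mul_mk, mul_one, one_mul] at this

theorem ψ_bijective : Function.Bijective ψ := by
  have := card_le.1
  have := Fi23.card_le.1
  refine ψ_surjective.bijective_of_nat_card_le ?_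
  rw [Nat.card_prod, Fi23.card_and_injective.1, Nat.card_eq_fintype_card (α := ℤˣ),
    Fintype.card_units_int]
  exact card_le.2.trans (le_of_eq (Nat.mul_comm _ _))

end CfsgLib.Coset.Y555
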