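import Cfsg.Agent.Coset.Blocks
import Cfsg.Agent.Coset.Table
import Cfsg.Agent.Coset.Y555.K11Data

set_option autoImplicit false
set_option maxRecDepth 100000
set_option Elab.async false

namespace CfsgLib.Coset.Y555.K11

theorem htable0 : belowBlock 1 1 (tableAt E id (7568 + chunk * 260) 1 11 4 Rep Ref Tb) 0 = true := by decide +kernel

end CfsgLib.Coset.Y555.K11
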