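import Cfsg.Agent.Coset.Y555.K11Steps0
import Cfsg.Agent.Coset.Y555.K11Table0
import Mathlib.Tactic.IntervalCases

set_option autoImplicit false
set_option maxRecDepth 100000
set_option Elab.async false

namespace CfsgLib.Coset.Y555.K11

/-- The relators on these letters. -/
def lrels : List (List Nat) := [[0, 0], [0, 1, 0, 1, 0, 1], [0, 2, 0, 2], [0, 3, 0, 3], [0, 4, 0, 4], [0, 5, 0, 5], [0, 6, 0, 6], [0, 7, 0, 7], [0, 8, 0, 8], [0, 9, 0, 9], [1, 1], [1, 2, 1, 2, 1, 2], [1, 3, 1, 3], [1, 4, 1, 4], [1, 5, 1, 5], [1, 6, 1, 6], [1, 7, 1, 7], [1, 8, 1, 8], [1, 9, 1, 9], [2, 2], [2, 3, 2, 3, 2, 3], [2, 4, 2, 4], [2, 5, 2, 5], [2, 6, 2, 6], [2, 7, 2, 7], [2, 8, 2, 8], [2, 9, 2, 9], [3, 3], [3, 4, 3, 4, 3, 4], [3, 5, 3, 5], [3, 6, 3, 6], [3, 7, 3, 7], [3, 8, 3, 8, 3, 8], [3, 9, 3, 9], [4, 4], [4, 5, 4, 5, 4, 5], [4, 6, 4, 6], [4, 7, 4, 7],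 [4, 8, 4, 8], [4, 9, 4, 9], [5, 5], [5, 6, 5, 6, 5, 6], [5, 7, 5, 7], [5, 8, 5, 8], [5, 9, 5, 9], [6, 6], [6, 7, 6, 7, 6, 7], [6, 8, 6, 8], [6, 9, 6, 9], [7, 7], [7, 8, 7, 8], [7, 9, 7, 9], [8, 8], [8, 9, 8, 9, 8, 9], [9, 9], [3, 2, 1, 3, 4, 5, 3, 8, 9, 3, 2, 1, 3, 4, 5, 3, 8, 9, 3, 2, 1, 3, 4, 5, 3, 8, 9, 3, 2, 1, 3, 4, 5, 3, 8, 9, 3, 2, 1, 3, 4, 5, 3, 8, 9, 3, 2, 1, 3, 4, 5, 3, 8, 9, 3, 2, 1, 3, 4, 5, 3, 8, 9, 3, 2, 1, 3, 4, 5, 3, 8, 9, 3, 2, 1, 3, 4, 5, 3, 8, 9, 3, 2, 1, 3, 4, 5, 3, 8, 9], [0, 10, 0, 10], [1, 10, 1, 10], [2, 10, 2, 10], [3, 10, 3, 10], [4, 10, 4, 10], [5, 10, 5, 10], [6, 10, 6, 10], [7, 10, 7, 10, 7, 10], [8, 10, 8, 10], [9, 10, 9, 10], [10, 10]]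

theorem hR : checkRules lrels subs R = true := by decide +kernel
theorem hdefs : checkDefs E 11 13 7568 = true := by decide +kernel

theorem hsteps : checkChunks E id R 11 (8 + 1) 7568 260 C = true :=
  checkChunks_of_blocks (by decide +kernel) fun b hb => by
    have : b < 2 := hb
    interval_cases b
    · exact hsteps0
    · exact hsteps1

theorem htable : checkTable E id (7568 + chunk * 260) 1 11 (1 + 0) 4 Rep Ref Tb = true :=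
  checkTable_of_blocks (by decide +kernel) (by decide +kernel) fun b hb => by
    have : b < 1 := hb
    interval_cases b
    · exact htable0
end CfsgLib.Coset.Y555.K11
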