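import Cfsg.Agent.Coset.Fi23.ThreeTransp
import Cfsg.Agent.Coset.Y555.Group
import Cfsg.Agent.Coset.Y555.K11

/-!
An eleventh node at the end of the arm of length four is the ninth power of the Coxeter element of
a subdiagram of type `E₇`.
-/

set_option autoImplicit false
set_option maxRecDepth 100000
set_option Elab.async false

namespace CfsgLib.Coset.Y555

open CfsgLib.Coset

/-- The power of the Coxeter element. -/
def wW : List Nat := (List.replicate 9 [3, 4, 2, 8, 5, 1, 6]).flatten

theorem wW_letters : ∀ l ∈ wW, l < 10 := by decide +kernel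

theorem ev_wW_Fi23 : ev Fi23.Lg wW = Fi23.t :=
  Fi23.ev_eq (by decide +kernel) (by decide +kernel) (by decide +kernel)

theorem eq_of_conj {G : Type*} [Group G] {e f : G} (he : e * e = 1) (hf : f * f = 1)
    (hc : e * f = f * e) (hb : e * f * (e * f) * (e * f) = 1) : e = f := by
  have h2 : e * f * (e * f) = 1 := by
    conv_lhs => enter [2]; rw [hc]
    rw [mul_assoc, ← mul_assoc f, hf, one_mul, he]
  rw [h2, one_mul] at hb
  exact (eq_inv_of_mul_eq_one_left hb).trans (inv_eq_of_mul_eq_one_right hf)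

/-- An element of `Cfsg.Spor.Fi23` centralising the point stabiliser. -/
theorem cent_H {x : Cfsg.Spor.Fi23}
    (h : ∀ l ∈ Fi23.S22, fl Fi23.Lg l * x = x * fl Fi23.Lg l) : x = 1 ∨ x = Fi23.t := by
  have hH : ∀ g ∈ Fi23.H, g * x = x * g := by
    intro g hg
    rw [Fi23.H_eq, genBy] at hg
    induction hg using Subgroup.closure_induction with
    | mem y hy =>
      obtain ⟨l, hl, rfl⟩ := List.mem_map.mp hy
      exact h l hl
    | one => simp
    | mul a b _ _ ha hb => rw [mul_assoc, hb, ← mul_assoc, ha, mul_assoc]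
    | inv a _ ha => exact (Commute.inv_left (a := a) ha).eq
  have ht : Fi23.t ∈ Fi23.H := by
    rw [Fi23.t, ← Fi23.coe_z]
    exact Fi23.z.2
  have hx : x ∈ Fi23.H := by
    rw [← Fi23.centralizer_t, Subgroup.mem_centralizer_singleton_iff]
    exact (hH _ ht).symm
  have hc : (⟨x, hx⟩ : Fi23.H) ∈ Subgroup.center Fi23.H :=
    Subgroup.mem_center_iff.mpr fun g => Subtype.ext (hH g g.2)
  rw [Fi23.center_eq, Subgroup.mem_zpowers_iff] at hc
  obtain ⟨k, hk⟩ := hc
  have hz : Fi23.z ^ (2 : ℤ) = 1 := by rw [zpow_two]; exact Fi23.z_sq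
  rcases Int.even_or_odd k with ⟨j, rfl⟩ | ⟨j, rfl⟩
  · left
    rw [← two_mul, zpow_mul, hz, one_zpow] at hk
    exact congrArg Subtype.val hk.symm
  · right
    rw [zpow_add, zpow_mul, hz, one_zpow, one_mul, zpow_one] at hk
    rw [Fi23.t, ← Fi23.coe_z]
    exact congrArg Subtype.val hk.symm

theorem flj_ne_one : fl Fi23.Lg 7 ≠ 1 := by
  intro h
  have h7 : ev Fi23.Lg [7] = 1 := by rw [ev_cons, ev_nil, mul_one, h]
  have hl : ∀ l ∈ [7], l < (Fi23.Lg).length := by decide +kernel
  have hf : follow (tget Fi23.Top.Tb) (0 : Fin 31671) [7] = ((0 : Fin 31671) : Nat) :=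
    (Fi23.matches_ρ.fix_iff hl).mp (by rw [h7, map_one Fi23.ρ, Equiv.Perm.one_apply])
  have hn : Nat.beq (follow (tget Fi23.Top.Tb) 0 [7]) 0 = false := by decide +kernel
  rw [show ((0 : Fin 31671) : Nat) = 0 from rfl] at hf
  rw [hf] at hn
  simp at hn

variable {P : Type*} [Group P] {L : List P}

theorem sub_rels11 (hrel : ∀ w ∈ rels11, ev L w = 1) : ∀ w ∈ presQ.rels, ev L w = 1 := by
  rw [relsQ_eq]
  intro w hw
  have hc : (rels.all fun w => rels11.contains w) = true := by decide +kernel
  exact hrel w (List.contains_iff_mem.mp (List.all_eq_true.mp hc w hw))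

theorem sq11 (hlen : L.length = 11) (hrel : ∀ w ∈ rels11, ev L w = 1) (l : Nat) :
    fl L l * fl L l = 1 := by
  rcases Nat.lt_or_ge l 11 with hl | hl
  · have hc : allBelow 4 11 (fun l => decide ([l, l] ∈ rels11)) = true := by decide +kernel
    simpa using hrel _ (of_decide_eq_true (of_allBelow hc l hl))
  · rw [fl_of_le _ (hlen ▸ hl), mul_one]

theorem last_mem (hlen : L.length = 11) (hrel : ∀ w ∈ rels11, ev L w = 1) :
    fl L 10 ∈ genW L K11.subs := by
  have hr : ∀ w ∈ K11.lrels, ev L w = 1 := fun w hw => hrel w (by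
    have hc : (K11.lrels.all fun w => rels11.contains w) = true := by decide +kernel
    exact List.contains_iff_mem.mp (List.all_eq_true.mp hc w hw))
  have hinv : ∀ x, fl L (id x) = (fl L x)⁻¹ := fun x => by
    rw [id, inv_eq_of_mul_eq_one_right (sq11 hlen hrel x)]
  have h := tableOK_of_check hinv K11.hR (hlen.symm ▸ K11.hdefs) (hlen.symm ▸ K11.hsteps)
    (hlen.symm ▸ K11.htable) hr (fun w hw => ev_mem_genW (L := L) hw)
  have hl : 10 < L.length := by omega
  have hs := h.step 0 (by norm_num) 10 hl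
  have h0 : tget K11.Tb 0 10 = 0 := by have := h.lt 0 (by norm_num) 10 hl; omega
  rwa [h0, h.zero, rp_zero, one_mul, inv_one, mul_one] at hs

/-- The eleventh node is the power of the Coxeter element. -/
theorem arm_end (hlen : L.length = 11) (hrel : ∀ w ∈ rels11, ev L w = 1) (σ : P →* ℤˣ)
    (hσ : ∀ l < 11, σ (fl L l) = -1) : fl L 10 = ev L wW := by
  obtain ⟨π, hπ⟩ : ∃ π : Q →* P, ∀ l < 10, π (fl Lq l) = fl L l :=
    ⟨presQ.hom presQ_ok (sub_rels11 hrel), fun l hl => by
      obtain ⟨x, rfl⟩ := hixQ l hl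
      exact presQ.hom_fl presQ_ok (sub_rels11 hrel) x⟩
  have hπw : ∀ w : List Nat, (∀ l ∈ w, l < 10) → π (ev Lq w) = ev L w := by
    intro w
    induction w with
    | nil => intro _; simp
    | cons l w ih =>
      intro hl
      rw [ev_cons, ev_cons, map_mul, hπ l (hl l (by simp)), ih fun x hx => hl x (by simp [hx])]
  obtain ⟨v, hv⟩ : fl L 10 ∈ π.range := by
    have hle : genW L K11.subs ≤ π.range := by
      refine (Subgroup.closure_le _).mpr ?_
      rintro _ ⟨w, hw, rfl⟩
      have hc : (K11.subs.all fun w => w.all fun l => decide (l < 10)) = true := by decide +kernel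
      simp only [List.all_eq_true, decide_eq_true_eq] at hc
      exact ⟨_, hπw w (hc w hw)⟩
    exact hle (last_mem hlen hrel)
  have hsgn : ∀ x : Q, σ (π x) = (ψ x).2 := by
    intro x
    have hx : x ∈ Subgroup.closure {y | y ∈ Lq} := closure_Lq ▸ Subgroup.mem_top x
    induction hx using Subgroup.closure_induction with
    | mem y hy =>
      obtain ⟨l, hl, rfl⟩ := List.getElem_of_mem hy
      have hl10 : l < 10 := hl
      rw [show (Lq)[l] = fl Lq l from (List.getD_eq_getElem _ _ hl).symm, hπ l hl10, ψ_fl hl10,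
        hσ l (by omega)]
    | one => simp
    | mul a b _ _ ha hb => simp [map_mul, ha, hb]
    | inv a _ ha => simp [map_inv, ha]
  have hv2 : (ψ v).2 = -1 := by rw [← hsgn, hv, hσ 10 (by norm_num)]
  have hw2 : (ψ (ev Lq wW)).2 = -1 := by
    rw [ψ_ev _ wW_letters]
    show (-1 : ℤˣ) ^ wW.length = -1
    rw [neg_one_pow, if_neg (by decide +kernel)]
  rw [← hπw wW wW_letters, ← hv]
  have := Fi23.isSimple
  have hn : (π.ker.map ((MonoidHom.fst _ _).comp ψ)).Normal :=
    Subgroup.Normal.map inferInstance _ fun g => by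
      obtain ⟨x, hx⟩ := ψ_surjective (g, 1)
      exact ⟨x, by simp [hx]⟩
  rcases hn.eq_bot_or_eq_top with hb | ht
  swap
  · -- the kernel contains all even elements
    have hker : ∀ x : Q, (ψ x).2 = 1 → π x = 1 := by
      intro x hx
      obtain ⟨k, hk, hke⟩ := Subgroup.mem_map.mp
        (show (ψ x).1 ∈ π.ker.map ((MonoidHom.fst _ _).comp ψ) from ht ▸ Subgroup.mem_top _)
      have hk2 : (ψ k).2 = 1 := by
        rw [← hsgn, MonoidHom.mem_ker.mp hk, map_one]
      have : k = x := ψ_bijective.1 (Prod.ext hke (hk2.trans hx.symm))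
      rw [← this]
      exact MonoidHom.mem_ker.mp hk
    have h1 := hker (v * (ev Lq wW)⁻¹) (by
      rw [map_mul, map_inv, Prod.snd_mul, Prod.snd_inv, hv2, hw2, mul_inv_cancel])
    rwa [map_mul, map_inv, mul_inv_eq_one] at h1
  · have hinj : ∀ a b : Q, π a = π b → a = b := by
      intro a b hab
      have hk : a * b⁻¹ ∈ π.ker := by rw [MonoidHom.mem_ker, map_mul, map_inv, hab, mul_inv_cancel]
      have h1 : (ψ (a * b⁻¹)).1 = 1 := by
        have hm : (ψ (a * b⁻¹)).1 ∈ π.ker.map ((MonoidHom.fst _ _).comp ψ) := ⟨_, hk, rfl⟩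
        rwa [hb, Subgroup.mem_bot] at hm
      have h2 : (ψ (a * b⁻¹)).2 = 1 := by rw [← hsgn, MonoidHom.mem_ker.mp hk, map_one]
      have h3 : a * b⁻¹ = 1 := ψ_bijective.1 ((Prod.ext h1 h2).trans (map_one ψ).symm)
      exact mul_inv_eq_one.mp h3
    have hcomm : ∀ l ∈ Fi23.S22, fl Lq l * v = v * fl Lq l := by
      intro l hl
      have hc : (Fi23.S22.all fun l => decide (l < 10) && rels11.contains [l, 10, l, 10]) = true :=
        by decide +kernel
      have h := List.all_eq_true.mp hc l hl
      simp only [Bool.and_eq_true, decide_eq_true_eq] at h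
      refine hinj _ _ ?_
      rw [map_mul, map_mul, hπ l h.1, hv]
      have e : fl L l * fl L 10 * (fl L l * fl L 10) = 1 := by
        simpa [ev_cons, mul_assoc] using hrel _ (List.contains_iff_mem.mp h.2)
      rw [eq_inv_of_mul_eq_one_left e, mul_inv_rev,
        inv_eq_of_mul_eq_one_right (sq11 hlen hrel l),
        inv_eq_of_mul_eq_one_right (sq11 hlen hrel 10)]
    have hx : (ψ v).1 = 1 ∨ (ψ v).1 = Fi23.t := cent_H fun l hl => by
      have hc : (Fi23.S22.all fun l => decide (l < 10)) = true := by decide +kernel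
      have hl10 : l < 10 := of_decide_eq_true (List.all_eq_true.mp hc l hl)
      simpa [ψ_fl hl10] using congrArg (fun z => (ψ z).1) (hcomm l hl)
    rcases hx with hx | hx
    · exfalso
      have hcent : ∀ q : Q, q * v = v * q := by
        intro q
        refine ψ_bijective.1 ?_
        rw [map_mul, map_mul]
        refine Prod.ext ?_ ?_
        · simp [hx]
        · simp [mul_comm]
      have hb' : [7, 10, 7, 10, 7, 10] ∈ rels11 := by decide +kernel
      have e : fl L 7 = fl L 10 := by
        refine eq_of_conj (sq11 hlen hrel 7) (sq11 hlen hrel 10) ?_ ?_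
        · rw [← hπ 7 (by norm_num), ← hv, ← map_mul, ← map_mul, hcent]
        · simpa [ev_cons, mul_assoc] using hrel _ hb'
      have e2 : fl Lq 7 = v := hinj _ _ (by rw [hπ 7 (by norm_num), hv, e])
      have e3 := congrArg (fun z => (ψ z).1) e2
      simp only [ψ_fl (show 7 < 10 by norm_num), hx] at e3
      exact flj_ne_one e3
    · refine congrArg π (ψ_bijective.1 (Prod.ext ?_ (hv2.trans hw2.symm)))
      rw [hx, ψ_ev _ wW_letters, ev_wW_Fi23]

end CfsgLib.Coset.Y555
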