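import Cfsg.Agent.Coset.Y555.Arm
import Cfsg.Prelude.Def_Spor_M

/-! In the Y₅₅₅ diagram the spider relation implies the relations for the ends of the arms. -/

set_option autoImplicit false
set_option maxRecDepth 100000
set_option Elab.async false

namespace CfsgLib.Coset.Y555

open CfsgLib.Coset Cfsg.Spor

/-- The spider word. -/
abbrev spiderElt : FreeGroup Bimonster.Gen :=
  (Bimonster.a * Bimonster.b1 * Bimonster.c1 * Bimonster.a * Bimonster.b2 * Bimonster.c2 *
    Bimonster.a * Bimonster.b3 * Bimonster.c3) ^ 10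

/-- The relators with the spider relation alone. -/
abbrev relsY : Set (FreeGroup Bimonster.Gen) :=
  Cfsg.Spor.coxRelators Bimonster.edges ∪ {r' | r' ∈ [spiderElt]}

/-- The group with the spider relation alone. -/
abbrev GY : Type := PresentedGroup relsY

/-- The image of a node. -/
noncomputable def o (x : Bimonster.Gen) : GY := PresentedGroup.of x

theorem mem_nodes (x : Bimonster.Gen) : x ∈ coxNodes Bimonster.edges := by cases x <;> decide

theorem o_cox (x y : Bimonster.Gen) : (o x * o y) ^ coxLabel Bimonster.edges x y = 1 := by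
  have h : PresentedGroup.mk relsY
      ((FreeGroup.of x * FreeGroup.of y) ^ coxLabel Bimonster.edges x y) = 1 :=
    PresentedGroup.one_of_mem (Set.mem_union_left _ ⟨x, mem_nodes x, y, mem_nodes y, rfl⟩)
  simpa [o, PresentedGroup.of] using h

theorem o_spider : (o .a * o .b1 * o .c1 * o .a * o .b2 * o .c2 * o .a * o .b3 * o .c3) ^ 10 = 1 := by
  have h : PresentedGroup.mk relsY spiderElt = 1 :=
    PresentedGroup.one_of_mem (Set.mem_union_right _ (List.mem_singleton_self _))
  simpa [o, PresentedGroup.of, spiderElt] using h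

theorem sign_rels : ∀ r ∈ relsY, FreeGroup.lift (fun _ : Bimonster.Gen => (-1 : ℤˣ)) r = 1 := by
  rintro r (⟨x, -, y, -, rfl⟩ | hr)
  · simp [map_pow, map_mul]
  · rw [show r = spiderElt from List.mem_singleton.mp hr]
    simp only [spiderElt, Bimonster.a, Bimonster.b1, Bimonster.c1, Bimonster.b2, Bimonster.c2, Bimonster.b3, Bimonster.c3, map_pow, map_mul, FreeGroup.lift_apply_of]
    decide

/-- The sign. -/
noncomputable def sgnY : GY →* ℤˣ := PresentedGroup.toGroup sign_rels

theorem sgnY_o (x : Bimonster.Gen) : sgnY (o x) = -1 := PresentedGroup.toGroup.of _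

/-- The nodes of a sub-diagram with long arm `i`, middle arm `j` and short arm `k`. -/
def roles (bi ci di ei fi bj cj dj bk ck : Bimonster.Gen) : List Bimonster.Gen :=
  [dj, cj, bj, .a, bi, ci, di, ei, bk, ck, fi]

/-- The spider relator with letters. -/
def spW : List Nat := (List.replicate 10 [3, 2, 1, 3, 4, 5, 3, 8, 9]).flatten

/-- A word is a Coxeter relator for the nodes. -/
def isCox (G : List Bimonster.Gen) (w : List Nat) : Bool :=
  (List.range 11).any fun x => (List.range 11).any fun y =>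
    w == (List.replicate (coxLabel Bimonster.edges (G.getD x .a) (G.getD y .a)) [x, y]).flatten

theorem ev_spW (L : List GY) : ev L spW =
    (fl L 3 * fl L 2 * fl L 1 * fl L 3 * fl L 4 * fl L 5 * fl L 3 * fl L 8 * fl L 9) ^ 10 := by
  rw [spW, ← pow_ev]
  simp [ev_cons, mul_assoc]

theorem fl_map (G : List Bimonster.Gen) {l : Nat} (hl : l < G.length) :
    fl (G.map o) l = o (G.getD l .a) := by
  rw [fl, List.getD_eq_getElem _ _ (by simpa using hl), List.getD_eq_getElem _ _ hl]
  simp

theorem rels_of (G : List Bimonster.Gen) (hlen : G.length = 11)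
    (hcox : (rels11.all fun w => (w == spW) || isCox G w) = true)
    (hsp : ev (G.map o) spW = 1) : ∀ w ∈ rels11, ev (G.map o) w = 1 := by
  intro w hw
  have h := List.all_eq_true.mp hcox w hw
  rcases Bool.or_eq_true _ _ ▸ h with h | h
  · rw [eq_of_beq h]; exact hsp
  · simp only [isCox, List.any_eq_true, List.mem_range] at h
    obtain ⟨x, hx, y, hy, he⟩ := h
    rw [eq_of_beq he, ← pow_ev, ev_cons, ev_cons, ev_nil, mul_one, fl_map G (hlen ▸ hx),
      fl_map G (hlen ▸ hy)]
    exact o_cox _ _

theorem end_eq (G : List Bimonster.Gen) (hlen : G.length = 11)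
    (hcox : (rels11.all fun w => (w == spW) || isCox G w) = true)
    (hsp : ev (G.map o) spW = 1) :
    o (G.getD 10 .a) = (o (G.getD 3 .a) * o (G.getD 4 .a) * o (G.getD 2 .a) * o (G.getD 8 .a) *
      o (G.getD 5 .a) * o (G.getD 1 .a) * o (G.getD 6 .a)) ^ 9 := by
  have h := arm_end (L := G.map o) (by simpa using hlen) (rels_of G hlen hcox hsp) sgnY
    (fun l hl => by rw [fl_map G (hlen ▸ hl), sgnY_o])
  rw [fl_map G (by omega), wW, ← pow_ev] at h
  rw [h]
  simp only [ev_cons, ev_nil, mul_one, fl_map G (show 3 < G.length by omega),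
    fl_map G (show 4 < G.length by omega), fl_map G (show 2 < G.length by omega),
    fl_map G (show 8 < G.length by omega), fl_map G (show 5 < G.length by omega),
    fl_map G (show 1 < G.length by omega), fl_map G (show 6 < G.length by omega), mul_assoc]

/-- Long arm 2, middle arm 1. -/
def G21 : List Bimonster.Gen := roles .b2 .c2 .d2 .e2 .f2 .b1 .c1 .d1 .b3 .c3
/-- Long arm 3, middle arm 2. -/
def G32 : List Bimonster.Gen := roles .b3 .c3 .d3 .e3 .f3 .b2 .c2 .d2 .b1 .c1
/-- Long arm 1, middle arm 3. -/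
def G13 : List Bimonster.Gen := roles .b1 .c1 .d1 .e1 .f1 .b3 .c3 .d3 .b2 .c2
/-- Long arm 1, middle arm 2. -/
def G12 : List Bimonster.Gen := roles .b1 .c1 .d1 .e1 .f1 .b2 .c2 .d2 .b3 .c3
/-- Long arm 2, middle arm 3. -/
def G23 : List Bimonster.Gen := roles .b2 .c2 .d2 .e2 .f2 .b3 .c3 .d3 .b1 .c1
/-- Long arm 3, middle arm 1. -/
def G31 : List Bimonster.Gen := roles .b3 .c3 .d3 .e3 .f3 .b1 .c1 .d1 .b2 .c2

theorem fl_G (G : List Bimonster.Gen) (hlen : G.length = 11) :
    ev (G.map o) spW = (o (G.getD 3 .a) * o (G.getD 2 .a) * o (G.getD 1 .a) * o (G.getD 3 .a) *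
      o (G.getD 4 .a) * o (G.getD 5 .a) * o (G.getD 3 .a) * o (G.getD 8 .a) *
      o (G.getD 9 .a)) ^ 10 := by
  rw [ev_spW, fl_map G (show 3 < G.length by omega), fl_map G (show 2 < G.length by omega),
    fl_map G (show 1 < G.length by omega), fl_map G (show 4 < G.length by omega),
    fl_map G (show 5 < G.length by omega), fl_map G (show 8 < G.length by omega),
    fl_map G (show 9 < G.length by omega)]

theorem rotate_one {G : Type*} [Group G] {x y : G} {n : ℕ} (h : (x * y) ^ n = 1) :
    (y * x) ^ n = 1 := by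
  have e : y * x = x⁻¹ * (x * y) * x⁻¹⁻¹ := by group
  rw [e, conj_pow, h, mul_one, mul_inv_cancel]

theorem sp21 : ev (G21.map o) spW = 1 := by
  rw [fl_G _ rfl]
  exact o_spider

/-- The spider relation with the other cyclic order of the arms. -/
theorem o_spider' :
    (o .a * o .b2 * o .c2 * o .a * o .b1 * o .c1 * o .a * o .b3 * o .c3) ^ 10 = 1 := by
  have hrel := rels_of G21 rfl (by decide +kernel) sp21
  obtain ⟨π, hπ⟩ : ∃ π : Q →* GY, ∀ l < 10, π (fl Lq l) = fl (G21.map o) l :=
    ⟨presQ.hom presQ_ok (sub_rels11 hrel), fun l hl => by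
      obtain ⟨x, rfl⟩ := hixQ l hl
      exact presQ.hom_fl presQ_ok (sub_rels11 hrel) x⟩
  have hone : ev Lq (List.replicate 10 [3, 4, 5, 3, 2, 1, 3, 8, 9]).flatten = 1 := by
    refine ψ_bijective.1 ?_
    rw [ψ_ev _ (by decide +kernel), map_one, neg_one_pow, if_pos (by decide +kernel),
      show ev Fi23.Lg (List.replicate 10 [3, 4, 5, 3, 2, 1, 3, 8, 9]).flatten = 1 from
        (Fi23.ev_eq (w := []) (by decide +kernel) (by decide +kernel) (by decide +kernel)).trans
          (ev_nil ..)]
    rfl
  have h := congrArg π hone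
  rw [← pow_ev, map_pow, map_one] at h
  simp only [ev_cons, ev_nil, mul_one, map_mul, hπ 3 (by norm_num), hπ 4 (by norm_num),
    hπ 5 (by norm_num), hπ 2 (by norm_num), hπ 1 (by norm_num), hπ 8 (by norm_num),
    hπ 9 (by norm_num), fl_map G21 (show 3 < G21.length by decide),
    fl_map G21 (show 4 < G21.length by decide), fl_map G21 (show 5 < G21.length by decide),
    fl_map G21 (show 2 < G21.length by decide), fl_map G21 (show 1 < G21.length by decide),
    fl_map G21 (show 8 < G21.length by decide), fl_map G21 (show 9 < G21.length by decide),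
    ← mul_assoc] at h
  exact h

theorem sp32 : ev (G32.map o) spW = 1 := by
  rw [fl_G _ rfl]
  have h := o_spider
  rw [show ∀ p1 p2 p3 p4 p5 p6 p7 p8 p9 : GY, p1 * p2 * p3 * p4 * p5 * p6 * p7 * p8 * p9 =
      (p1 * p2 * p3) * (p4 * p5 * p6 * p7 * p8 * p9) from fun _ _ _ _ _ _ _ _ _ => by group] at h
  have h' := rotate_one h
  simp only [← mul_assoc] at h'
  exact h'

theorem sp13 : ev (G13.map o) spW = 1 := by
  rw [fl_G _ rfl]
  have h := o_spider
  rw [show ∀ p1 p2 p3 p4 p5 p6 p7 p8 p9 : GY, p1 * p2 * p3 * p4 * p5 * p6 * p7 * p8 * p9 =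
      (p1 * p2 * p3 * p4 * p5 * p6) * (p7 * p8 * p9) from fun _ _ _ _ _ _ _ _ _ => by group] at h
  have h' := rotate_one h
  simp only [← mul_assoc] at h'
  exact h'

theorem sp12 : ev (G12.map o) spW = 1 := by
  rw [fl_G _ rfl]
  exact o_spider'

theorem sp31 : ev (G31.map o) spW = 1 := by
  rw [fl_G _ rfl]
  have h := o_spider'
  rw [show ∀ p1 p2 p3 p4 p5 p6 p7 p8 p9 : GY, p1 * p2 * p3 * p4 * p5 * p6 * p7 * p8 * p9 =
      (p1 * p2 * p3) * (p4 * p5 * p6 * p7 * p8 * p9) from fun _ _ _ _ _ _ _ _ _ => by group] at h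
  have h' := rotate_one h
  simp only [← mul_assoc] at h'
  exact h'

theorem sp23 : ev (G23.map o) spW = 1 := by
  rw [fl_G _ rfl]
  have h := o_spider'
  rw [show ∀ p1 p2 p3 p4 p5 p6 p7 p8 p9 : GY, p1 * p2 * p3 * p4 * p5 * p6 * p7 * p8 * p9 =
      (p1 * p2 * p3 * p4 * p5 * p6) * (p7 * p8 * p9) from fun _ _ _ _ _ _ _ _ _ => by group] at h
  have h' := rotate_one h
  simp only [← mul_assoc] at h'
  exact h'

/-- All further relators hold. -/
theorem extra_hold : ∀ r ∈ Bimonster.extra, PresentedGroup.mk relsY r = 1 := by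
  intro r hr
  have e12 := end_eq G12 rfl (by decide +kernel) sp12
  have e13 := end_eq G13 rfl (by decide +kernel) sp13
  have e21 := end_eq G21 rfl (by decide +kernel) sp21
  have e23 := end_eq G23 rfl (by decide +kernel) sp23
  have e31 := end_eq G31 rfl (by decide +kernel) sp31
  have e32 := end_eq G32 rfl (by decide +kernel) sp32
  have hs := o_spider
  simp only [G12, G13, G21, G23, G31, G32, roles, List.getD_cons_zero, List.getD_cons_succ] at e12 e13 e21 e23 e31 e32
  simp only [Bimonster.extra, List.mem_cons, List.not_mem_nil, or_false] at hr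
  rcases hr with rfl | rfl | rfl | rfl | rfl | rfl | rfl
  · simpa [o, PresentedGroup.of] using hs
  · simp only [map_mul, map_inv, map_pow]; exact mul_inv_eq_one.mpr e12
  · simp only [map_mul, map_inv, map_pow]; exact mul_inv_eq_one.mpr e13
  · simp only [map_mul, map_inv, map_pow]; exact mul_inv_eq_one.mpr e21
  · simp only [map_mul, map_inv, map_pow]; exact mul_inv_eq_one.mpr e23
  · simp only [map_mul, map_inv, map_pow]; exact mul_inv_eq_one.mpr e31
  · simp only [map_mul, map_inv, map_pow]; exact mul_inv_eq_one.mpr e32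

end CfsgLib.Coset.Y555
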